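import Cfsg.Agent.Lib.Helper9.TCData.A7C0.Main

set_option autoImplicit false
set_option maxRecDepth 1000000

namespace Cfsg.Agent.Helper9.TCData.A7C0
open Cfsg.Agent.Helper9.TC2

theorem e1_0 : allRange 0 4948 (fun u => chkE tab 1 u) = true := by decide +kernel

theorem e1_1 : allRange 4948 4363 (fun u => chkE tab 1 u) = true := by decide +kernel

theorem e1_2 : allRange 9311 4465 (fun u => chkE tab 1 u) = true := by decide +kernel

theorem e1_3 : allRange 13776 2228 (fun u => chkE tab 1 u) = true := by decide +kernel

theorem e2_0 : allRange 0 1877 (fun u => chkE tab 2 u) = true := by decide +kernel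

theorem e2_1 : allRange 1877 1634 (fun u => chkE tab 2 u) = true := by decide +kernel

theorem e2_2 : allRange 3511 1606 (fun u => chkE tab 2 u) = true := by decide +kernel

theorem e2_3 : allRange 5117 1537 (fun u => chkE tab 2 u) = true := by decide +kernel


end Cfsg.Agent.Helper9.TCData.A7C0
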