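import Cfsg.Agent.Lib.Helper9.TCData.A7C0.Main

set_option autoImplicit false
set_option maxRecDepth 1000000

namespace Cfsg.Agent.Helper9.TCData.A7C0
open Cfsg.Agent.Helper9.TC2

theorem f_40 : allRange 8440 211 (fun u => chkFin tab u) = true := by decide +kernel

theorem f_41 : allRange 8651 211 (fun u => chkFin tab u) = true := by decide +kernel

theorem f_42 : allRange 8862 211 (fun u => chkFin tab u) = true := by decide +kernel

theorem f_43 : allRange 9073 211 (fun u => chkFin tab u) = true := by decide +kernel

theorem f_44 : allRange 9284 211 (fun u => chkFin tab u) = true := by decide +kernel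

theorem f_45 : allRange 9495 211 (fun u => chkFin tab u) = true := by decide +kernel

theorem f_46 : allRange 9706 211 (fun u => chkFin tab u) = true := by decide +kernel

theorem f_47 : allRange 9917 211 (fun u => chkFin tab u) = true := by decide +kernel


end Cfsg.Agent.Helper9.TCData.A7C0
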