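import Cfsg.Agent.Lib.Helper9.TCData.A7C0.Main

set_option autoImplicit false
set_option maxRecDepth 1000000

namespace Cfsg.Agent.Helper9.TCData.A7C0
open Cfsg.Agent.Helper9.TC2

theorem e2_4 : allRange 6654 1617 (fun u => chkE tab 2 u) = true := by decide +kernel

theorem e2_5 : allRange 8271 1604 (fun u => chkE tab 2 u) = true := by decide +kernel

theorem e2_6 : allRange 9875 1639 (fun u => chkE tab 2 u) = true := by decide +kernel

theorem e2_7 : allRange 11514 1665 (fun u => chkE tab 2 u) = true := by decide +kernel

theorem e2_8 : allRange 13179 1699 (fun u => chkE tab 2 u) = true := by decide +kernel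

theorem e2_9 : allRange 14878 1126 (fun u => chkE tab 2 u) = true := by decide +kernel

theorem e3_0 : allRange 0 4676 (fun u => chkE tab 3 u) = true := by decide +kernel

theorem e3_1 : allRange 4676 4160 (fun u => chkE tab 3 u) = true := by decide +kernel


end Cfsg.Agent.Helper9.TCData.A7C0
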