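import Cfsg.Agent.Lib.Helper9.TCData.A7C0.Main

set_option autoImplicit false
set_option maxRecDepth 1000000

namespace Cfsg.Agent.Helper9.TCData.A7C0
open Cfsg.Agent.Helper9.TC2

theorem m1_8 : allRange 4296 537 (fun u => chkM1 tab u) = true := by decide +kernel

theorem m1_9 : allRange 4833 537 (fun u => chkM1 tab u) = true := by decide +kernel

theorem m1_10 : allRange 5370 537 (fun u => chkM1 tab u) = true := by decide +kernel

theorem m1_11 : allRange 5907 537 (fun u => chkM1 tab u) = true := by decide +kernel

theorem m1_12 : allRange 6444 537 (fun u => chkM1 tab u) = true := by decide +kernel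

theorem m1_13 : allRange 6981 537 (fun u => chkM1 tab u) = true := by decide +kernel

theorem m1_14 : allRange 7518 537 (fun u => chkM1 tab u) = true := by decide +kernel

theorem m1_15 : allRange 8055 537 (fun u => chkM1 tab u) = true := by decide +kernel


end Cfsg.Agent.Helper9.TCData.A7C0
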