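import Cfsg.Agent.Lib.Helper9.TCData.A7C0.Main

set_option autoImplicit false
set_option maxRecDepth 1000000

namespace Cfsg.Agent.Helper9.TCData.A7C0
open Cfsg.Agent.Helper9.TC2

theorem m1_24 : allRange 12888 537 (fun u => chkM1 tab u) = true := by decide +kernel

theorem m1_25 : allRange 13425 537 (fun u => chkM1 tab u) = true := by decide +kernel

theorem m1_26 : allRange 13962 537 (fun u => chkM1 tab u) = true := by decide +kernel

theorem m1_27 : allRange 14499 537 (fun u => chkM1 tab u) = true := by decide +kernel

theorem m1_28 : allRange 15036 84 (fun u => chkM1 tab u) = true := by decide +kernel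

theorem m2_0 : allRange 0 118 (fun u => chkFix tab mwords u) = true := by decide +kernel

theorem m2_1 : allRange 118 118 (fun u => chkFix tab mwords u) = true := by decide +kernel

theorem m2_2 : allRange 236 118 (fun u => chkFix tab mwords u) = true := by decide +kernel


end Cfsg.Agent.Helper9.TCData.A7C0
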