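import Cfsg.Agent.Lib.Helper9.TCData.A7C0.Main

set_option autoImplicit false
set_option maxRecDepth 1000000

namespace Cfsg.Agent.Helper9.TCData.A7C0
open Cfsg.Agent.Helper9.TC2

theorem m2_11 : allRange 1298 118 (fun u => chkFix tab mwords u) = true := by decide +kernel

theorem m2_12 : allRange 1416 118 (fun u => chkFix tab mwords u) = true := by decide +kernel

theorem m2_13 : allRange 1534 118 (fun u => chkFix tab mwords u) = true := by decide +kernel

theorem m2_14 : allRange 1652 118 (fun u => chkFix tab mwords u) = true := by decide +kernel

theorem m2_15 : allRange 1770 118 (fun u => chkFix tab mwords u) = true := by decide +kernel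

theorem m2_16 : allRange 1888 118 (fun u => chkFix tab mwords u) = true := by decide +kernel

theorem m2_17 : allRange 2006 118 (fun u => chkFix tab mwords u) = true := by decide +kernel

theorem m2_18 : allRange 2124 118 (fun u => chkFix tab mwords u) = true := by decide +kernel


end Cfsg.Agent.Helper9.TCData.A7C0
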