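import Cfsg.Agent.Lib.Helper9.TCData.A7C0.Main

set_option autoImplicit false
set_option maxRecDepth 1000000

namespace Cfsg.Agent.Helper9.TCData.A7C0
open Cfsg.Agent.Helper9.TC2

theorem e3_2 : allRange 8836 4456 (fun u => chkE tab 3 u) = true := by decide +kernel

theorem e3_3 : allRange 13292 2712 (fun u => chkE tab 3 u) = true := by decide +kernel

theorem e4_0 : allRange 0 2041 (fun u => chkE tab 4 u) = true := by decide +kernel

theorem e4_1 : allRange 2041 1796 (fun u => chkE tab 4 u) = true := by decide +kernel

theorem e4_2 : allRange 3837 1666 (fun u => chkE tab 4 u) = true := by decide +kernel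

theorem e4_3 : allRange 5503 1696 (fun u => chkE tab 4 u) = true := by decide +kernel

theorem e4_4 : allRange 7199 1639 (fun u => chkE tab 4 u) = true := by decide +kernel

theorem e4_5 : allRange 8838 1649 (fun u => chkE tab 4 u) = true := by decide +kernel


end Cfsg.Agent.Helper9.TCData.A7C0
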