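import Cfsg.Agent.Lib.Helper9.TCData.A7C0.Main

set_option autoImplicit false
set_option maxRecDepth 1000000

namespace Cfsg.Agent.Helper9.TCData.A7C0
open Cfsg.Agent.Helper9.TC2

theorem m2_51 : allRange 6018 118 (fun u => chkFix tab mwords u) = true := by decide +kernel

theorem m2_52 : allRange 6136 118 (fun u => chkFix tab mwords u) = true := by decide +kernel

theorem m2_53 : allRange 6254 118 (fun u => chkFix tab mwords u) = true := by decide +kernel

theorem m2_54 : allRange 6372 118 (fun u => chkFix tab mwords u) = true := by decide +kernel

theorem m2_55 : allRange 6490 118 (fun u => chkFix tab mwords u) = true := by decide +kernel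

theorem m2_56 : allRange 6608 118 (fun u => chkFix tab mwords u) = true := by decide +kernel

theorem m2_57 : allRange 6726 118 (fun u => chkFix tab mwords u) = true := by decide +kernel

theorem m2_58 : allRange 6844 118 (fun u => chkFix tab mwords u) = true := by decide +kernel


end Cfsg.Agent.Helper9.TCData.A7C0
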