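import Cfsg.Agent.Lib.Helper9.TCData.A7C0.Main

set_option autoImplicit false
set_option maxRecDepth 1000000

namespace Cfsg.Agent.Helper9.TCData.A7C0
open Cfsg.Agent.Helper9.TC2

theorem m2_99 : allRange 11682 118 (fun u => chkFix tab mwords u) = true := by decide +kernel

theorem m2_100 : allRange 11800 118 (fun u => chkFix tab mwords u) = true := by decide +kernel

theorem m2_101 : allRange 11918 118 (fun u => chkFix tab mwords u) = true := by decide +kernel

theorem m2_102 : allRange 12036 118 (fun u => chkFix tab mwords u) = true := by decide +kernel

theorem m2_103 : allRange 12154 118 (fun u => chkFix tab mwords u) = true := by decide +kernel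

theorem m2_104 : allRange 12272 118 (fun u => chkFix tab mwords u) = true := by decide +kernel

theorem m2_105 : allRange 12390 118 (fun u => chkFix tab mwords u) = true := by decide +kernel

theorem m2_106 : allRange 12508 118 (fun u => chkFix tab mwords u) = true := by decide +kernel


end Cfsg.Agent.Helper9.TCData.A7C0
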