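import Cfsg.Agent.Lib.Helper9.TCData.A7C0.Main

set_option autoImplicit false
set_option maxRecDepth 1000000

namespace Cfsg.Agent.Helper9.TCData.A7C0
open Cfsg.Agent.Helper9.TC2

theorem e4_6 : allRange 10487 1672 (fun u => chkE tab 4 u) = true := by decide +kernel

theorem e4_7 : allRange 12159 1656 (fun u => chkE tab 4 u) = true := by decide +kernel

theorem e4_8 : allRange 13815 1575 (fun u => chkE tab 4 u) = true := by decide +kernel

theorem e4_9 : allRange 15390 614 (fun u => chkE tab 4 u) = true := by decide +kernel

theorem e5_0 : allRange 0 4718 (fun u => chkE tab 5 u) = true := by decide +kernel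

theorem e5_1 : allRange 4718 4210 (fun u => chkE tab 5 u) = true := by decide +kernel

theorem e5_2 : allRange 8928 4293 (fun u => chkE tab 5 u) = true := by decide +kernel

theorem e5_3 : allRange 13221 2783 (fun u => chkE tab 5 u) = true := by decide +kernel


end Cfsg.Agent.Helper9.TCData.A7C0
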