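import Cfsg.Agent.Lib.Helper9.TCData.A7C0.Main

set_option autoImplicit false
set_option maxRecDepth 1000000

namespace Cfsg.Agent.Helper9.TCData.A7C0
open Cfsg.Agent.Helper9.TC2

theorem e6_0 : allRange 0 2318 (fun u => chkE tab 6 u) = true := by decide +kernel

theorem e6_1 : allRange 2318 1969 (fun u => chkE tab 6 u) = true := by decide +kernel

theorem e6_2 : allRange 4287 1838 (fun u => chkE tab 6 u) = true := by decide +kernel

theorem e6_3 : allRange 6125 1768 (fun u => chkE tab 6 u) = true := by decide +kernel

theorem e6_4 : allRange 7893 1708 (fun u => chkE tab 6 u) = true := by decide +kernel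

theorem e6_5 : allRange 9601 1687 (fun u => chkE tab 6 u) = true := by decide +kernel

theorem e6_6 : allRange 11288 1695 (fun u => chkE tab 6 u) = true := by decide +kernel

theorem e6_7 : allRange 12983 1631 (fun u => chkE tab 6 u) = true := by decide +kernel


end Cfsg.Agent.Helper9.TCData.A7C0
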