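import Cfsg.Agent.Lib.Helper9.TCData.A7C0.Main

set_option autoImplicit false
set_option maxRecDepth 1000000

namespace Cfsg.Agent.Helper9.TCData.A7C0
open Cfsg.Agent.Helper9.TC2

theorem e6_8 : allRange 14614 1390 (fun u => chkE tab 6 u) = true := by decide +kernel

theorem e7_0 : allRange 0 4846 (fun u => chkE tab 7 u) = true := by decide +kernel

theorem e7_1 : allRange 4846 4334 (fun u => chkE tab 7 u) = true := by decide +kernel

theorem e7_2 : allRange 9180 4386 (fun u => chkE tab 7 u) = true := by decide +kernel

theorem e7_3 : allRange 13566 2438 (fun u => chkE tab 7 u) = true := by decide +kernel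

theorem e8_0 : allRange 0 2280 (fun u => chkE tab 8 u) = true := by decide +kernel

theorem e8_1 : allRange 2280 1854 (fun u => chkE tab 8 u) = true := by decide +kernel

theorem e8_2 : allRange 4134 1759 (fun u => chkE tab 8 u) = true := by decide +kernel


end Cfsg.Agent.Helper9.TCData.A7C0
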