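import Cfsg.Agent.Lib.Helper9.TCData.A7C0.Main

set_option autoImplicit false
set_option maxRecDepth 1000000

namespace Cfsg.Agent.Helper9.TCData.A7C0
open Cfsg.Agent.Helper9.TC2

theorem e8_3 : allRange 5893 1676 (fun u => chkE tab 8 u) = true := by decide +kernel

theorem e8_4 : allRange 7569 1604 (fun u => chkE tab 8 u) = true := by decide +kernel

theorem e8_5 : allRange 9173 1573 (fun u => chkE tab 8 u) = true := by decide +kernel

theorem e8_6 : allRange 10746 1477 (fun u => chkE tab 8 u) = true := by decide +kernel

theorem e8_7 : allRange 12223 1445 (fun u => chkE tab 8 u) = true := by decide +kernel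

theorem e8_8 : allRange 13668 1488 (fun u => chkE tab 8 u) = true := by decide +kernel

theorem e8_9 : allRange 15156 848 (fun u => chkE tab 8 u) = true := by decide +kernel

theorem e9_0 : allRange 0 4753 (fun u => chkE tab 9 u) = true := by decide +kernel


end Cfsg.Agent.Helper9.TCData.A7C0
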