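import Cfsg.Agent.Lib.Helper9.TCData.A7C0.Main

set_option autoImplicit false
set_option maxRecDepth 1000000

namespace Cfsg.Agent.Helper9.TCData.A7C0
open Cfsg.Agent.Helper9.TC2

theorem e9_1 : allRange 4753 4258 (fun u => chkE tab 9 u) = true := by decide +kernel

theorem e9_2 : allRange 9011 4152 (fun u => chkE tab 9 u) = true := by decide +kernel

theorem e9_3 : allRange 13163 2841 (fun u => chkE tab 9 u) = true := by decide +kernel

theorem e10_0 : allRange 0 3405 (fun u => chkE tab 10 u) = true := by decide +kernel

theorem e10_1 : allRange 3405 2571 (fun u => chkE tab 10 u) = true := by decide +kernel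

theorem e10_2 : allRange 5976 2429 (fun u => chkE tab 10 u) = true := by decide +kernel

theorem e10_3 : allRange 8405 2394 (fun u => chkE tab 10 u) = true := by decide +kernel

theorem e10_4 : allRange 10799 2340 (fun u => chkE tab 10 u) = true := by decide +kernel


end Cfsg.Agent.Helper9.TCData.A7C0
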