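import Cfsg.Agent.Lib.Helper9.TCData.A7C0.Main

set_option autoImplicit false
set_option maxRecDepth 1000000

namespace Cfsg.Agent.Helper9.TCData.A7C0
open Cfsg.Agent.Helper9.TC2

theorem e10_5 : allRange 13139 2279 (fun u => chkE tab 10 u) = true := by decide +kernel

theorem e10_6 : allRange 15418 586 (fun u => chkE tab 10 u) = true := by decide +kernel

theorem e11_0 : allRange 0 3482 (fun u => chkE tab 11 u) = true := by decide +kernel

theorem e11_1 : allRange 3482 2652 (fun u => chkE tab 11 u) = true := by decide +kernel

theorem e11_2 : allRange 6134 2552 (fun u => chkE tab 11 u) = true := by decide +kernel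

theorem e11_3 : allRange 8686 2489 (fun u => chkE tab 11 u) = true := by decide +kernel

theorem e11_4 : allRange 11175 2455 (fun u => chkE tab 11 u) = true := by decide +kernel

theorem e11_5 : allRange 13630 2374 (fun u => chkE tab 11 u) = true := by decide +kernel


end Cfsg.Agent.Helper9.TCData.A7C0
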