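import Cfsg.Agent.Lib.Helper9.TCData.A7C0.S0
import Cfsg.Agent.Lib.Helper9.TCData.A7C0.S1
import Cfsg.Agent.Lib.Helper9.TCData.A7C0.S2
import Cfsg.Agent.Lib.Helper9.TCData.A7C0.S3
import Cfsg.Agent.Lib.Helper9.TCData.A7C0.S4
import Cfsg.Agent.Lib.Helper9.TCData.A7C0.S5
import Cfsg.Agent.Lib.Helper9.TCData.A7C0.S6
import Cfsg.Agent.Lib.Helper9.TCData.A7C0.S7
import Cfsg.Agent.Lib.Helper9.TCData.A7C0.S8
import Cfsg.Agent.Lib.Helper9.TCData.A7C0.S9
import Cfsg.Agent.Lib.Helper9.TCData.A7C0.S10
import Cfsg.Agent.Lib.Helper9.TCData.A7C0.S11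
import Cfsg.Agent.Lib.Helper9.TCData.A7C0.S12
import Cfsg.Agent.Lib.Helper9.TCData.A7C0.S13
import Cfsg.Agent.Lib.Helper9.TCData.A7C0.S14
import Cfsg.Agent.Lib.Helper9.TCData.A7C0.S15
import Cfsg.Agent.Lib.Helper9.TCData.A7C0.S16
import Cfsg.Agent.Lib.Helper9.TCData.A7C0.S17
import Cfsg.Agent.Lib.Helper9.TCData.A7C0.S18
import Cfsg.Agent.Lib.Helper9.TCData.A7C0.S19
import Cfsg.Agent.Lib.Helper9.TCData.A7C0.S20
import Cfsg.Agent.Lib.Helper9.TCData.A7C0.S21
import Cfsg.Agent.Lib.Helper9.TCData.A7C0.S22
import Cfsg.Agent.Lib.Helper9.TCData.A7C0.S23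
import Cfsg.Agent.Lib.Helper9.TCData.A7C0.S24
import Cfsg.Agent.Lib.Helper9.TCData.A7C0.S25
import Cfsg.Agent.Lib.Helper9.TCData.A7C0.S26
import Cfsg.Agent.Lib.Helper9.TCData.A7C0.S27
import Cfsg.Agent.Lib.Helper9.TCData.A7C0.S28
import Cfsg.Agent.Lib.Helper9.TCData.A7C0.S29
import Cfsg.Agent.Lib.Helper9.TCData.A7C0.S30
import Cfsg.Agent.Lib.Helper9.TCData.A7C0.S31
import Cfsg.Agent.Lib.Helper9.TCData.A7C0.S32
import Cfsg.Agent.Lib.Helper9.TCData.A7C0.S33
import Cfsg.Agent.Lib.Helper9.TCData.A7C0.S34
import Cfsg.Agent.Lib.Helper9.TCData.A7C0.S35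
import Cfsg.Agent.Lib.Helper9.TCData.A7C0.S36
import Cfsg.Agent.Lib.Helper9.TCData.A7C0.S37
import Cfsg.Agent.Lib.Helper9.TCData.A7C0.S38
import Cfsg.Agent.Lib.Helper9.TCData.A7C0.S39
import Cfsg.Agent.Lib.Helper9.TCData.A7C0.S40

set_option autoImplicit false
set_option maxRecDepth 1000000

namespace Cfsg.Agent.Helper9.TCData.A7C0
open Cfsg.Agent.Helper9.TC2


theorem hE0 : ∀ u < 16004, chkE tab 0 u = true := by
  have h0 : ∀ u < 0, (fun u => chkE tab 0 u) u = true := range_zero
  have h1 : ∀ u < 2132, (fun u => chkE tab 0 u) u = true := ext_range (a := 0) (len := 2132) h0 e0_0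
  have h2 : ∀ u < 3998, (fun u => chkE tab 0 u) u = true := ext_range (a := 2132) (len := 1866) h1 e0_1
  have h3 : ∀ u < 5832, (fun u => chkE tab 0 u) u = true := ext_range (a := 3998) (len := 1834) h2 e0_2
  have h4 : ∀ u < 7692, (fun u => chkE tab 0 u) u = true := ext_range (a := 5832) (len := 1860) h3 e0_3
  have h5 : ∀ u < 9625, (fun u => chkE tab 0 u) u = true := ext_range (a := 7692) (len := 1933) h4 e0_4
  have h6 : ∀ u < 11689, (fun u => chkE tab 0 u) u = true := ext_range (a := 9625) (len := 2064) h5 e0_5
  have h7 : ∀ u < 13944, (fun u => chkE tab 0 u) u = true := ext_range (a := 11689) (len := 2255) h6 e0_6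
  have h8 : ∀ u < 16004, (fun u => chkE tab 0 u) u = true := ext_range (a := 13944) (len := 2060) h7 e0_7
  exact h8

theorem hE1 : ∀ u < 16004, chkE tab 1 u = true := by
  have h0 : ∀ u < 0, (fun u => chkE tab 1 u) u = true := range_zero
  have h1 : ∀ u < 4948, (fun u => chkE tab 1 u) u = true := ext_range (a := 0) (len := 4948) h0 e1_0
  have h2 : ∀ u < 9311, (fun u => chkE tab 1 u) u = true := ext_range (a := 4948) (len := 4363) h1 e1_1
  have h3 : ∀ u < 13776, (fun u => chkE tab 1 u) u = true := ext_range (a := 9311) (len := 4465) h2 e1_2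
  have h4 : ∀ u < 16004, (fun u => chkE tab 1 u) u = true := ext_range (a := 13776) (len := 2228) h3 e1_3
  exact h4

theorem hE2 : ∀ u < 16004, chkE tab 2 u = true := by
  have h0 : ∀ u < 0, (fun u => chkE tab 2 u) u = true := range_zero
  have h1 : ∀ u < 1877, (fun u => chkE tab 2 u) u = true := ext_range (a := 0) (len := 1877) h0 e2_0
  have h2 : ∀ u < 3511, (fun u => chkE tab 2 u) u = true := ext_range (a := 1877) (len := 1634) h1 e2_1
  have h3 : ∀ u < 5117, (fun u => chkE tab 2 u) u = true := ext_range (a := 3511) (len := 1606) h2 e2_2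
  have h4 : ∀ u < 6654, (fun u => chkE tab 2 u) u = true := ext_range (a := 5117) (len := 1537) h3 e2_3
  have h5 : ∀ u < 8271, (fun u => chkE tab 2 u) u = true := ext_range (a := 6654) (len := 1617) h4 e2_4
  have h6 : ∀ u < 9875, (fun u => chkE tab 2 u) u = true := ext_range (a := 8271) (len := 1604) h5 e2_5
  have h7 : ∀ u < 11514, (fun u => chkE tab 2 u) u = true := ext_range (a := 9875) (len := 1639) h6 e2_6
  have h8 : ∀ u < 13179, (fun u => chkE tab 2 u) u = true := ext_range (a := 11514) (len := 1665) h7 e2_7
  have h9 : ∀ u < 14878, (fun u => chkE tab 2 u) u = true := ext_range (a := 13179) (len := 1699) h8 e2_8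
  have h10 : ∀ u < 16004, (fun u => chkE tab 2 u) u = true := ext_range (a := 14878) (len := 1126) h9 e2_9
  exact h10

theorem hE3 : ∀ u < 16004, chkE tab 3 u = true := by
  have h0 : ∀ u < 0, (fun u => chkE tab 3 u) u = true := range_zero
  have h1 : ∀ u < 4676, (fun u => chkE tab 3 u) u = true := ext_range (a := 0) (len := 4676) h0 e3_0
  have h2 : ∀ u < 8836, (fun u => chkE tab 3 u) u = true := ext_range (a := 4676) (len := 4160) h1 e3_1
  have h3 : ∀ u < 13292, (fun u => chkE tab 3 u) u = true := ext_range (a := 8836) (len := 4456) h2 e3_2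
  have h4 : ∀ u < 16004, (fun u => chkE tab 3 u) u = true := ext_range (a := 13292) (len := 2712) h3 e3_3
  exact h4

theorem hE4 : ∀ u < 16004, chkE tab 4 u = true := by
  have h0 : ∀ u < 0, (fun u => chkE tab 4 u) u = true := range_zero
  have h1 : ∀ u < 2041, (fun u => chkE tab 4 u) u = true := ext_range (a := 0) (len := 2041) h0 e4_0
  have h2 : ∀ u < 3837, (fun u => chkE tab 4 u) u = true := ext_range (a := 2041) (len := 1796) h1 e4_1
  have h3 : ∀ u < 5503, (fun u => chkE tab 4 u) u = true := ext_range (a := 3837) (len := 1666) h2 e4_2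
  have h4 : ∀ u < 7199, (fun u => chkE tab 4 u) u = true := ext_range (a := 5503) (len := 1696) h3 e4_3
  have h5 : ∀ u < 8838, (fun u => chkE tab 4 u) u = true := ext_range (a := 7199) (len := 1639) h4 e4_4
  have h6 : ∀ u < 10487, (fun u => chkE tab 4 u) u = true := ext_range (a := 8838) (len := 1649) h5 e4_5
  have h7 : ∀ u < 12159, (fun u => chkE tab 4 u) u = true := ext_range (a := 10487) (len := 1672) h6 e4_6
  have h8 : ∀ u < 13815, (fun u => chkE tab 4 u) u = true := ext_range (a := 12159) (len := 1656) h7 e4_7
  have h9 : ∀ u < 15390, (fun u => chkE tab 4 u) u = true := ext_range (a := 13815) (len := 1575) h8 e4_8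
  have h10 : ∀ u < 16004, (fun u => chkE tab 4 u) u = true := ext_range (a := 15390) (len := 614) h9 e4_9
  exact h10

theorem hE5 : ∀ u < 16004, chkE tab 5 u = true := by
  have h0 : ∀ u < 0, (fun u => chkE tab 5 u) u = true := range_zero
  have h1 : ∀ u < 4718, (fun u => chkE tab 5 u) u = true := ext_range (a := 0) (len := 4718) h0 e5_0
  have h2 : ∀ u < 8928, (fun u => chkE tab 5 u) u = true := ext_range (a := 4718) (len := 4210) h1 e5_1
  have h3 : ∀ u < 13221, (fun u => chkE tab 5 u) u = true := ext_range (a := 8928) (len := 4293) h2 e5_2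
  have h4 : ∀ u < 16004, (fun u => chkE tab 5 u) u = true := ext_range (a := 13221) (len := 2783) h3 e5_3
  exact h4

theorem hE6 : ∀ u < 16004, chkE tab 6 u = true := by
  have h0 : ∀ u < 0, (fun u => chkE tab 6 u) u = true := range_zero
  have h1 : ∀ u < 2318, (fun u => chkE tab 6 u) u = true := ext_range (a := 0) (len := 2318) h0 e6_0
  have h2 : ∀ u < 4287, (fun u => chkE tab 6 u) u = true := ext_range (a := 2318) (len := 1969) h1 e6_1
  have h3 : ∀ u < 6125, (fun u => chkE tab 6 u) u = true := ext_range (a := 4287) (len := 1838) h2 e6_2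
  have h4 : ∀ u < 7893, (fun u => chkE tab 6 u) u = true := ext_range (a := 6125) (len := 1768) h3 e6_3
  have h5 : ∀ u < 9601, (fun u => chkE tab 6 u) u = true := ext_range (a := 7893) (len := 1708) h4 e6_4
  have h6 : ∀ u < 11288, (fun u => chkE tab 6 u) u = true := ext_range (a := 9601) (len := 1687) h5 e6_5
  have h7 : ∀ u < 12983, (fun u => chkE tab 6 u) u = true := ext_range (a := 11288) (len := 1695) h6 e6_6
  have h8 : ∀ u < 14614, (fun u => chkE tab 6 u) u = true := ext_range (a := 12983) (len := 1631) h7 e6_7
  have h9 : ∀ u < 16004, (fun u => chkE tab 6 u) u = true := ext_range (a := 14614) (len := 1390) h8 e6_8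
  exact h9

theorem hE7 : ∀ u < 16004, chkE tab 7 u = true := by
  have h0 : ∀ u < 0, (fun u => chkE tab 7 u) u = true := range_zero
  have h1 : ∀ u < 4846, (fun u => chkE tab 7 u) u = true := ext_range (a := 0) (len := 4846) h0 e7_0
  have h2 : ∀ u < 9180, (fun u => chkE tab 7 u) u = true := ext_range (a := 4846) (len := 4334) h1 e7_1
  have h3 : ∀ u < 13566, (fun u => chkE tab 7 u) u = true := ext_range (a := 9180) (len := 4386) h2 e7_2
  have h4 : ∀ u < 16004, (fun u => chkE tab 7 u) u = true := ext_range (a := 13566) (len := 2438) h3 e7_3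
  exact h4

theorem hE8 : ∀ u < 16004, chkE tab 8 u = true := by
  have h0 : ∀ u < 0, (fun u => chkE tab 8 u) u = true := range_zero
  have h1 : ∀ u < 2280, (fun u => chkE tab 8 u) u = true := ext_range (a := 0) (len := 2280) h0 e8_0
  have h2 : ∀ u < 4134, (fun u => chkE tab 8 u) u = true := ext_range (a := 2280) (len := 1854) h1 e8_1
  have h3 : ∀ u < 5893, (fun u => chkE tab 8 u) u = true := ext_range (a := 4134) (len := 1759) h2 e8_2
  have h4 : ∀ u < 7569, (fun u => chkE tab 8 u) u = true := ext_range (a := 5893) (len := 1676) h3 e8_3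
  have h5 : ∀ u < 9173, (fun u => chkE tab 8 u) u = true := ext_range (a := 7569) (len := 1604) h4 e8_4
  have h6 : ∀ u < 10746, (fun u => chkE tab 8 u) u = true := ext_range (a := 9173) (len := 1573) h5 e8_5
  have h7 : ∀ u < 12223, (fun u => chkE tab 8 u) u = true := ext_range (a := 10746) (len := 1477) h6 e8_6
  have h8 : ∀ u < 13668, (fun u => chkE tab 8 u) u = true := ext_range (a := 12223) (len := 1445) h7 e8_7
  have h9 : ∀ u < 15156, (fun u => chkE tab 8 u) u = true := ext_range (a := 13668) (len := 1488) h8 e8_8
  have h10 : ∀ u < 16004, (fun u => chkE tab 8 u) u = true := ext_range (a := 15156) (len := 848) h9 e8_9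
  exact h10

theorem hE9 : ∀ u < 16004, chkE tab 9 u = true := by
  have h0 : ∀ u < 0, (fun u => chkE tab 9 u) u = true := range_zero
  have h1 : ∀ u < 4753, (fun u => chkE tab 9 u) u = true := ext_range (a := 0) (len := 4753) h0 e9_0
  have h2 : ∀ u < 9011, (fun u => chkE tab 9 u) u = true := ext_range (a := 4753) (len := 4258) h1 e9_1
  have h3 : ∀ u < 13163, (fun u => chkE tab 9 u) u = true := ext_range (a := 9011) (len := 4152) h2 e9_2
  have h4 : ∀ u < 16004, (fun u => chkE tab 9 u) u = true := ext_range (a := 13163) (len := 2841) h3 e9_3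
  exact h4

theorem hE10 : ∀ u < 16004, chkE tab 10 u = true := by
  have h0 : ∀ u < 0, (fun u => chkE tab 10 u) u = true := range_zero
  have h1 : ∀ u < 3405, (fun u => chkE tab 10 u) u = true := ext_range (a := 0) (len := 3405) h0 e10_0
  have h2 : ∀ u < 5976, (fun u => chkE tab 10 u) u = true := ext_range (a := 3405) (len := 2571) h1 e10_1
  have h3 : ∀ u < 8405, (fun u => chkE tab 10 u) u = true := ext_range (a := 5976) (len := 2429) h2 e10_2
  have h4 : ∀ u < 10799, (fun u => chkE tab 10 u) u = true := ext_range (a := 8405) (len := 2394) h3 e10_3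
  have h5 : ∀ u < 13139, (fun u => chkE tab 10 u) u = true := ext_range (a := 10799) (len := 2340) h4 e10_4
  have h6 : ∀ u < 15418, (fun u => chkE tab 10 u) u = true := ext_range (a := 13139) (len := 2279) h5 e10_5
  have h7 : ∀ u < 16004, (fun u => chkE tab 10 u) u = true := ext_range (a := 15418) (len := 586) h6 e10_6
  exact h7

theorem hE11 : ∀ u < 16004, chkE tab 11 u = true := by
  have h0 : ∀ u < 0, (fun u => chkE tab 11 u) u = true := range_zero
  have h1 : ∀ u < 3482, (fun u => chkE tab 11 u) u = true := ext_range (a := 0) (len := 3482) h0 e11_0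
  have h2 : ∀ u < 6134, (fun u => chkE tab 11 u) u = true := ext_range (a := 3482) (len := 2652) h1 e11_1
  have h3 : ∀ u < 8686, (fun u => chkE tab 11 u) u = true := ext_range (a := 6134) (len := 2552) h2 e11_2
  have h4 : ∀ u < 11175, (fun u => chkE tab 11 u) u = true := ext_range (a := 8686) (len := 2489) h3 e11_3
  have h5 : ∀ u < 13630, (fun u => chkE tab 11 u) u = true := ext_range (a := 11175) (len := 2455) h4 e11_4
  have h6 : ∀ u < 16004, (fun u => chkE tab 11 u) u = true := ext_range (a := 13630) (len := 2374) h5 e11_5
  exact h6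

theorem hL : ∀ u < 16004, chkL tab u = true := by
  have h0 : ∀ u < 0, (fun u => chkL tab u) u = true := range_zero
  have h1 : ∀ u < 16004, (fun u => chkL tab u) u = true := ext_range (a := 0) (len := 16004) h0 l_0
  exact h1

theorem hF : ∀ u < 15120, chkFin tab u = true := by
  have h0 : ∀ u < 0, (fun u => chkFin tab u) u = true := range_zero
  have h1 : ∀ u < 211, (fun u => chkFin tab u) u = true := ext_range (a := 0) (len := 211) h0 f_0
  have h2 : ∀ u < 422, (fun u => chkFin tab u) u = true := ext_range (a := 211) (len := 211) h1 f_1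
  have h3 : ∀ u < 633, (fun u => chkFin tab u) u = true := ext_range (a := 422) (len := 211) h2 f_2
  have h4 : ∀ u < 844, (fun u => chkFin tab u) u = true := ext_range (a := 633) (len := 211) h3 f_3
  have h5 : ∀ u < 1055, (fun u => chkFin tab u) u = true := ext_range (a := 844) (len := 211) h4 f_4
  have h6 : ∀ u < 1266, (fun u => chkFin tab u) u = true := ext_range (a := 1055) (len := 211) h5 f_5
  have h7 : ∀ u < 1477, (fun u => chkFin tab u) u = true := ext_range (a := 1266) (len := 211) h6 f_6
  have h8 : ∀ u < 1688, (fun u => chkFin tab u) u = true := ext_range (a := 1477) (len := 211) h7 f_7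
  have h9 : ∀ u < 1899, (fun u => chkFin tab u) u = true := ext_range (a := 1688) (len := 211) h8 f_8
  have h10 : ∀ u < 2110, (fun u => chkFin tab u) u = true := ext_range (a := 1899) (len := 211) h9 f_9
  have h11 : ∀ u < 2321, (fun u => chkFin tab u) u = true := ext_range (a := 2110) (len := 211) h10 f_10
  have h12 : ∀ u < 2532, (fun u => chkFin tab u) u = true := ext_range (a := 2321) (len := 211) h11 f_11
  have h13 : ∀ u < 2743, (fun u => chkFin tab u) u = true := ext_range (a := 2532) (len := 211) h12 f_12
  have h14 : ∀ u < 2954, (fun u => chkFin tab u) u = true := ext_range (a := 2743) (len := 211) h13 f_13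
  have h15 : ∀ u < 3165, (fun u => chkFin tab u) u = true := ext_range (a := 2954) (len := 211) h14 f_14
  have h16 : ∀ u < 3376, (fun u => chkFin tab u) u = true := ext_range (a := 3165) (len := 211) h15 f_15
  have h17 : ∀ u < 3587, (fun u => chkFin tab u) u = true := ext_range (a := 3376) (len := 211) h16 f_16
  have h18 : ∀ u < 3798, (fun u => chkFin tab u) u = true := ext_range (a := 3587) (len := 211) h17 f_17
  have h19 : ∀ u < 4009, (fun u => chkFin tab u) u = true := ext_range (a := 3798) (len := 211) h18 f_18
  have h20 : ∀ u < 4220, (fun u => chkFin tab u) u = true := ext_range (a := 4009) (len := 211) h19 f_19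
  have h21 : ∀ u < 4431, (fun u => chkFin tab u) u = true := ext_range (a := 4220) (len := 211) h20 f_20
  have h22 : ∀ u < 4642, (fun u => chkFin tab u) u = true := ext_range (a := 4431) (len := 211) h21 f_21
  have h23 : ∀ u < 4853, (fun u => chkFin tab u) u = true := ext_range (a := 4642) (len := 211) h22 f_22
  have h24 : ∀ u < 5064, (fun u => chkFin tab u) u = true := ext_range (a := 4853) (len := 211) h23 f_23
  have h25 : ∀ u < 5275, (fun u => chkFin tab u) u = true := ext_range (a := 5064) (len := 211) h24 f_24
  have h26 : ∀ u < 5486, (fun u => chkFin tab u) u = true := ext_range (a := 5275) (len := 211) h25 f_25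
  have h27 : ∀ u < 5697, (fun u => chkFin tab u) u = true := ext_range (a := 5486) (len := 211) h26 f_26
  have h28 : ∀ u < 5908, (fun u => chkFin tab u) u = true := ext_range (a := 5697) (len := 211) h27 f_27
  have h29 : ∀ u < 6119, (fun u => chkFin tab u) u = true := ext_range (a := 5908) (len := 211) h28 f_28
  have h30 : ∀ u < 6330, (fun u => chkFin tab u) u = true := ext_range (a := 6119) (len := 211) h29 f_29
  have h31 : ∀ u < 6541, (fun u => chkFin tab u) u = true := ext_range (a := 6330) (len := 211) h30 f_30
  have h32 : ∀ u < 6752, (fun u => chkFin tab u) u = true := ext_range (a := 6541) (len := 211) h31 f_31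
  have h33 : ∀ u < 6963, (fun u => chkFin tab u) u = true := ext_range (a := 6752) (len := 211) h32 f_32
  have h34 : ∀ u < 7174, (fun u => chkFin tab u) u = true := ext_range (a := 6963) (len := 211) h33 f_33
  have h35 : ∀ u < 7385, (fun u => chkFin tab u) u = true := ext_range (a := 7174) (len := 211) h34 f_34
  have h36 : ∀ u < 7596, (fun u => chkFin tab u) u = true := ext_range (a := 7385) (len := 211) h35 f_35
  have h37 : ∀ u < 7807, (fun u => chkFin tab u) u = true := ext_range (a := 7596) (len := 211) h36 f_36
  have h38 : ∀ u < 8018, (fun u => chkFin tab u) u = true := ext_range (a := 7807) (len := 211) h37 f_37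
  have h39 : ∀ u < 8229, (fun u => chkFin tab u) u = true := ext_range (a := 8018) (len := 211) h38 f_38
  have h40 : ∀ u < 8440, (fun u => chkFin tab u) u = true := ext_range (a := 8229) (len := 211) h39 f_39
  have h41 : ∀ u < 8651, (fun u => chkFin tab u) u = true := ext_range (a := 8440) (len := 211) h40 f_40
  have h42 : ∀ u < 8862, (fun u => chkFin tab u) u = true := ext_range (a := 8651) (len := 211) h41 f_41
  have h43 : ∀ u < 9073, (fun u => chkFin tab u) u = true := ext_range (a := 8862) (len := 211) h42 f_42
  have h44 : ∀ u < 9284, (fun u => chkFin tab u) u = true := ext_range (a := 9073) (len := 211) h43 f_43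
  have h45 : ∀ u < 9495, (fun u => chkFin tab u) u = true := ext_range (a := 9284) (len := 211) h44 f_44
  have h46 : ∀ u < 9706, (fun u => chkFin tab u) u = true := ext_range (a := 9495) (len := 211) h45 f_45
  have h47 : ∀ u < 9917, (fun u => chkFin tab u) u = true := ext_range (a := 9706) (len := 211) h46 f_46
  have h48 : ∀ u < 10128, (fun u => chkFin tab u) u = true := ext_range (a := 9917) (len := 211) h47 f_47
  have h49 : ∀ u < 10339, (fun u => chkFin tab u) u = true := ext_range (a := 10128) (len := 211) h48 f_48
  have h50 : ∀ u < 10550, (fun u => chkFin tab u) u = true := ext_range (a := 10339) (len := 211) h49 f_49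
  have h51 : ∀ u < 10761, (fun u => chkFin tab u) u = true := ext_range (a := 10550) (len := 211) h50 f_50
  have h52 : ∀ u < 10972, (fun u => chkFin tab u) u = true := ext_range (a := 10761) (len := 211) h51 f_51
  have h53 : ∀ u < 11183, (fun u => chkFin tab u) u = true := ext_range (a := 10972) (len := 211) h52 f_52
  have h54 : ∀ u < 11394, (fun u => chkFin tab u) u = true := ext_range (a := 11183) (len := 211) h53 f_53
  have h55 : ∀ u < 11605, (fun u => chkFin tab u) u = true := ext_range (a := 11394) (len := 211) h54 f_54
  have h56 : ∀ u < 11816, (fun u => chkFin tab u) u = true := ext_range (a := 11605) (len := 211) h55 f_55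
  have h57 : ∀ u < 12027, (fun u => chkFin tab u) u = true := ext_range (a := 11816) (len := 211) h56 f_56
  have h58 : ∀ u < 12238, (fun u => chkFin tab u) u = true := ext_range (a := 12027) (len := 211) h57 f_57
  have h59 : ∀ u < 12449, (fun u => chkFin tab u) u = true := ext_range (a := 12238) (len := 211) h58 f_58
  have h60 : ∀ u < 12660, (fun u => chkFin tab u) u = true := ext_range (a := 12449) (len := 211) h59 f_59
  have h61 : ∀ u < 12871, (fun u => chkFin tab u) u = true := ext_range (a := 12660) (len := 211) h60 f_60
  have h62 : ∀ u < 13082, (fun u => chkFin tab u) u = true := ext_range (a := 12871) (len := 211) h61 f_61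
  have h63 : ∀ u < 13293, (fun u => chkFin tab u) u = true := ext_range (a := 13082) (len := 211) h62 f_62
  have h64 : ∀ u < 13504, (fun u => chkFin tab u) u = true := ext_range (a := 13293) (len := 211) h63 f_63
  have h65 : ∀ u < 13715, (fun u => chkFin tab u) u = true := ext_range (a := 13504) (len := 211) h64 f_64
  have h66 : ∀ u < 13926, (fun u => chkFin tab u) u = true := ext_range (a := 13715) (len := 211) h65 f_65
  have h67 : ∀ u < 14137, (fun u => chkFin tab u) u = true := ext_range (a := 13926) (len := 211) h66 f_66
  have h68 : ∀ u < 14348, (fun u => chkFin tab u) u = true := ext_range (a := 14137) (len := 211) h67 f_67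
  have h69 : ∀ u < 14559, (fun u => chkFin tab u) u = true := ext_range (a := 14348) (len := 211) h68 f_68
  have h70 : ∀ u < 14770, (fun u => chkFin tab u) u = true := ext_range (a := 14559) (len := 211) h69 f_69
  have h71 : ∀ u < 14981, (fun u => chkFin tab u) u = true := ext_range (a := 14770) (len := 211) h70 f_70
  have h72 : ∀ u < 15120, (fun u => chkFin tab u) u = true := ext_range (a := 14981) (len := 139) h71 f_71
  exact h72

theorem hC : ∀ u < 16004, chkCls tab u = true := by
  have h0 : ∀ u < 0, (fun u => chkCls tab u) u = true := range_zero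
  have h1 : ∀ u < 2667, (fun u => chkCls tab u) u = true := ext_range (a := 0) (len := 2667) h0 c_0
  have h2 : ∀ u < 5334, (fun u => chkCls tab u) u = true := ext_range (a := 2667) (len := 2667) h1 c_1
  have h3 : ∀ u < 8001, (fun u => chkCls tab u) u = true := ext_range (a := 5334) (len := 2667) h2 c_2
  have h4 : ∀ u < 10668, (fun u => chkCls tab u) u = true := ext_range (a := 8001) (len := 2667) h3 c_3
  have h5 : ∀ u < 13335, (fun u => chkCls tab u) u = true := ext_range (a := 10668) (len := 2667) h4 c_4
  have h6 : ∀ u < 16002, (fun u => chkCls tab u) u = true := ext_range (a := 13335) (len := 2667) h5 c_5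
  have h7 : ∀ u < 16004, (fun u => chkCls tab u) u = true := ext_range (a := 16002) (len := 2) h6 c_6
  exact h7

theorem hM1 : ∀ u < 15120, chkM1 tab u = true := by
  have h0 : ∀ u < 0, (fun u => chkM1 tab u) u = true := range_zero
  have h1 : ∀ u < 537, (fun u => chkM1 tab u) u = true := ext_range (a := 0) (len := 537) h0 m1_0
  have h2 : ∀ u < 1074, (fun u => chkM1 tab u) u = true := ext_range (a := 537) (len := 537) h1 m1_1
  have h3 : ∀ u < 1611, (fun u => chkM1 tab u) u = true := ext_range (a := 1074) (len := 537) h2 m1_2
  have h4 : ∀ u < 2148, (fun u => chkM1 tab u) u = true := ext_range (a := 1611) (len := 537) h3 m1_3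
  have h5 : ∀ u < 2685, (fun u => chkM1 tab u) u = true := ext_range (a := 2148) (len := 537) h4 m1_4
  have h6 : ∀ u < 3222, (fun u => chkM1 tab u) u = true := ext_range (a := 2685) (len := 537) h5 m1_5
  have h7 : ∀ u < 3759, (fun u => chkM1 tab u) u = true := ext_range (a := 3222) (len := 537) h6 m1_6
  have h8 : ∀ u < 4296, (fun u => chkM1 tab u) u = true := ext_range (a := 3759) (len := 537) h7 m1_7
  have h9 : ∀ u < 4833, (fun u => chkM1 tab u) u = true := ext_range (a := 4296) (len := 537) h8 m1_8
  have h10 : ∀ u < 5370, (fun u => chkM1 tab u) u = true := ext_range (a := 4833) (len := 537) h9 m1_9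
  have h11 : ∀ u < 5907, (fun u => chkM1 tab u) u = true := ext_range (a := 5370) (len := 537) h10 m1_10
  have h12 : ∀ u < 6444, (fun u => chkM1 tab u) u = true := ext_range (a := 5907) (len := 537) h11 m1_11
  have h13 : ∀ u < 6981, (fun u => chkM1 tab u) u = true := ext_range (a := 6444) (len := 537) h12 m1_12
  have h14 : ∀ u < 7518, (fun u => chkM1 tab u) u = true := ext_range (a := 6981) (len := 537) h13 m1_13
  have h15 : ∀ u < 8055, (fun u => chkM1 tab u) u = true := ext_range (a := 7518) (len := 537) h14 m1_14
  have h16 : ∀ u < 8592, (fun u => chkM1 tab u) u = true := ext_range (a := 8055) (len := 537) h15 m1_15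
  have h17 : ∀ u < 9129, (fun u => chkM1 tab u) u = true := ext_range (a := 8592) (len := 537) h16 m1_16
  have h18 : ∀ u < 9666, (fun u => chkM1 tab u) u = true := ext_range (a := 9129) (len := 537) h17 m1_17
  have h19 : ∀ u < 10203, (fun u => chkM1 tab u) u = true := ext_range (a := 9666) (len := 537) h18 m1_18
  have h20 : ∀ u < 10740, (fun u => chkM1 tab u) u = true := ext_range (a := 10203) (len := 537) h19 m1_19
  have h21 : ∀ u < 11277, (fun u => chkM1 tab u) u = true := ext_range (a := 10740) (len := 537) h20 m1_20
  have h22 : ∀ u < 11814, (fun u => chkM1 tab u) u = true := ext_range (a := 11277) (len := 537) h21 m1_21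
  have h23 : ∀ u < 12351, (fun u => chkM1 tab u) u = true := ext_range (a := 11814) (len := 537) h22 m1_22
  have h24 : ∀ u < 12888, (fun u => chkM1 tab u) u = true := ext_range (a := 12351) (len := 537) h23 m1_23
  have h25 : ∀ u < 13425, (fun u => chkM1 tab u) u = true := ext_range (a := 12888) (len := 537) h24 m1_24
  have h26 : ∀ u < 13962, (fun u => chkM1 tab u) u = true := ext_range (a := 13425) (len := 537) h25 m1_25
  have h27 : ∀ u < 14499, (fun u => chkM1 tab u) u = true := ext_range (a := 13962) (len := 537) h26 m1_26
  have h28 : ∀ u < 15036, (fun u => chkM1 tab u) u = true := ext_range (a := 14499) (len := 537) h27 m1_27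
  have h29 : ∀ u < 15120, (fun u => chkM1 tab u) u = true := ext_range (a := 15036) (len := 84) h28 m1_28
  exact h29

theorem hM2 : ∀ u < 15120, chkFix tab mwords u = true := by
  have h0 : ∀ u < 0, (fun u => chkFix tab mwords u) u = true := range_zero
  have h1 : ∀ u < 118, (fun u => chkFix tab mwords u) u = true := ext_range (a := 0) (len := 118) h0 m2_0
  have h2 : ∀ u < 236, (fun u => chkFix tab mwords u) u = true := ext_range (a := 118) (len := 118) h1 m2_1
  have h3 : ∀ u < 354, (fun u => chkFix tab mwords u) u = true := ext_range (a := 236) (len := 118) h2 m2_2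
  have h4 : ∀ u < 472, (fun u => chkFix tab mwords u) u = true := ext_range (a := 354) (len := 118) h3 m2_3
  have h5 : ∀ u < 590, (fun u => chkFix tab mwords u) u = true := ext_range (a := 472) (len := 118) h4 m2_4
  have h6 : ∀ u < 708, (fun u => chkFix tab mwords u) u = true := ext_range (a := 590) (len := 118) h5 m2_5
  have h7 : ∀ u < 826, (fun u => chkFix tab mwords u) u = true := ext_range (a := 708) (len := 118) h6 m2_6
  have h8 : ∀ u < 944, (fun u => chkFix tab mwords u) u = true := ext_range (a := 826) (len := 118) h7 m2_7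
  have h9 : ∀ u < 1062, (fun u => chkFix tab mwords u) u = true := ext_range (a := 944) (len := 118) h8 m2_8
  have h10 : ∀ u < 1180, (fun u => chkFix tab mwords u) u = true := ext_range (a := 1062) (len := 118) h9 m2_9
  have h11 : ∀ u < 1298, (fun u => chkFix tab mwords u) u = true := ext_range (a := 1180) (len := 118) h10 m2_10
  have h12 : ∀ u < 1416, (fun u => chkFix tab mwords u) u = true := ext_range (a := 1298) (len := 118) h11 m2_11
  have h13 : ∀ u < 1534, (fun u => chkFix tab mwords u) u = true := ext_range (a := 1416) (len := 118) h12 m2_12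
  have h14 : ∀ u < 1652, (fun u => chkFix tab mwords u) u = true := ext_range (a := 1534) (len := 118) h13 m2_13
  have h15 : ∀ u < 1770, (fun u => chkFix tab mwords u) u = true := ext_range (a := 1652) (len := 118) h14 m2_14
  have h16 : ∀ u < 1888, (fun u => chkFix tab mwords u) u = true := ext_range (a := 1770) (len := 118) h15 m2_15
  have h17 : ∀ u < 2006, (fun u => chkFix tab mwords u) u = true := ext_range (a := 1888) (len := 118) h16 m2_16
  have h18 : ∀ u < 2124, (fun u => chkFix tab mwords u) u = true := ext_range (a := 2006) (len := 118) h17 m2_17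
  have h19 : ∀ u < 2242, (fun u => chkFix tab mwords u) u = true := ext_range (a := 2124) (len := 118) h18 m2_18
  have h20 : ∀ u < 2360, (fun u => chkFix tab mwords u) u = true := ext_range (a := 2242) (len := 118) h19 m2_19
  have h21 : ∀ u < 2478, (fun u => chkFix tab mwords u) u = true := ext_range (a := 2360) (len := 118) h20 m2_20
  have h22 : ∀ u < 2596, (fun u => chkFix tab mwords u) u = true := ext_range (a := 2478) (len := 118) h21 m2_21
  have h23 : ∀ u < 2714, (fun u => chkFix tab mwords u) u = true := ext_range (a := 2596) (len := 118) h22 m2_22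
  have h24 : ∀ u < 2832, (fun u => chkFix tab mwords u) u = true := ext_range (a := 2714) (len := 118) h23 m2_23
  have h25 : ∀ u < 2950, (fun u => chkFix tab mwords u) u = true := ext_range (a := 2832) (len := 118) h24 m2_24
  have h26 : ∀ u < 3068, (fun u => chkFix tab mwords u) u = true := ext_range (a := 2950) (len := 118) h25 m2_25
  have h27 : ∀ u < 3186, (fun u => chkFix tab mwords u) u = true := ext_range (a := 3068) (len := 118) h26 m2_26
  have h28 : ∀ u < 3304, (fun u => chkFix tab mwords u) u = true := ext_range (a := 3186) (len := 118) h27 m2_27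
  have h29 : ∀ u < 3422, (fun u => chkFix tab mwords u) u = true := ext_range (a := 3304) (len := 118) h28 m2_28
  have h30 : ∀ u < 3540, (fun u => chkFix tab mwords u) u = true := ext_range (a := 3422) (len := 118) h29 m2_29
  have h31 : ∀ u < 3658, (fun u => chkFix tab mwords u) u = true := ext_range (a := 3540) (len := 118) h30 m2_30
  have h32 : ∀ u < 3776, (fun u => chkFix tab mwords u) u = true := ext_range (a := 3658) (len := 118) h31 m2_31
  have h33 : ∀ u < 3894, (fun u => chkFix tab mwords u) u = true := ext_range (a := 3776) (len := 118) h32 m2_32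
  have h34 : ∀ u < 4012, (fun u => chkFix tab mwords u) u = true := ext_range (a := 3894) (len := 118) h33 m2_33
  have h35 : ∀ u < 4130, (fun u => chkFix tab mwords u) u = true := ext_range (a := 4012) (len := 118) h34 m2_34
  have h36 : ∀ u < 4248, (fun u => chkFix tab mwords u) u = true := ext_range (a := 4130) (len := 118) h35 m2_35
  have h37 : ∀ u < 4366, (fun u => chkFix tab mwords u) u = true := ext_range (a := 4248) (len := 118) h36 m2_36
  have h38 : ∀ u < 4484, (fun u => chkFix tab mwords u) u = true := ext_range (a := 4366) (len := 118) h37 m2_37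
  have h39 : ∀ u < 4602, (fun u => chkFix tab mwords u) u = true := ext_range (a := 4484) (len := 118) h38 m2_38
  have h40 : ∀ u < 4720, (fun u => chkFix tab mwords u) u = true := ext_range (a := 4602) (len := 118) h39 m2_39
  have h41 : ∀ u < 4838, (fun u => chkFix tab mwords u) u = true := ext_range (a := 4720) (len := 118) h40 m2_40
  have h42 : ∀ u < 4956, (fun u => chkFix tab mwords u) u = true := ext_range (a := 4838) (len := 118) h41 m2_41
  have h43 : ∀ u < 5074, (fun u => chkFix tab mwords u) u = true := ext_range (a := 4956) (len := 118) h42 m2_42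
  have h44 : ∀ u < 5192, (fun u => chkFix tab mwords u) u = true := ext_range (a := 5074) (len := 118) h43 m2_43
  have h45 : ∀ u < 5310, (fun u => chkFix tab mwords u) u = true := ext_range (a := 5192) (len := 118) h44 m2_44
  have h46 : ∀ u < 5428, (fun u => chkFix tab mwords u) u = true := ext_range (a := 5310) (len := 118) h45 m2_45
  have h47 : ∀ u < 5546, (fun u => chkFix tab mwords u) u = true := ext_range (a := 5428) (len := 118) h46 m2_46
  have h48 : ∀ u < 5664, (fun u => chkFix tab mwords u) u = true := ext_range (a := 5546) (len := 118) h47 m2_47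
  have h49 : ∀ u < 5782, (fun u => chkFix tab mwords u) u = true := ext_range (a := 5664) (len := 118) h48 m2_48
  have h50 : ∀ u < 5900, (fun u => chkFix tab mwords u) u = true := ext_range (a := 5782) (len := 118) h49 m2_49
  have h51 : ∀ u < 6018, (fun u => chkFix tab mwords u) u = true := ext_range (a := 5900) (len := 118) h50 m2_50
  have h52 : ∀ u < 6136, (fun u => chkFix tab mwords u) u = true := ext_range (a := 6018) (len := 118) h51 m2_51
  have h53 : ∀ u < 6254, (fun u => chkFix tab mwords u) u = true := ext_range (a := 6136) (len := 118) h52 m2_52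
  have h54 : ∀ u < 6372, (fun u => chkFix tab mwords u) u = true := ext_range (a := 6254) (len := 118) h53 m2_53
  have h55 : ∀ u < 6490, (fun u => chkFix tab mwords u) u = true := ext_range (a := 6372) (len := 118) h54 m2_54
  have h56 : ∀ u < 6608, (fun u => chkFix tab mwords u) u = true := ext_range (a := 6490) (len := 118) h55 m2_55
  have h57 : ∀ u < 6726, (fun u => chkFix tab mwords u) u = true := ext_range (a := 6608) (len := 118) h56 m2_56
  have h58 : ∀ u < 6844, (fun u => chkFix tab mwords u) u = true := ext_range (a := 6726) (len := 118) h57 m2_57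
  have h59 : ∀ u < 6962, (fun u => chkFix tab mwords u) u = true := ext_range (a := 6844) (len := 118) h58 m2_58
  have h60 : ∀ u < 7080, (fun u => chkFix tab mwords u) u = true := ext_range (a := 6962) (len := 118) h59 m2_59
  have h61 : ∀ u < 7198, (fun u => chkFix tab mwords u) u = true := ext_range (a := 7080) (len := 118) h60 m2_60
  have h62 : ∀ u < 7316, (fun u => chkFix tab mwords u) u = true := ext_range (a := 7198) (len := 118) h61 m2_61
  have h63 : ∀ u < 7434, (fun u => chkFix tab mwords u) u = true := ext_range (a := 7316) (len := 118) h62 m2_62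
  have h64 : ∀ u < 7552, (fun u => chkFix tab mwords u) u = true := ext_range (a := 7434) (len := 118) h63 m2_63
  have h65 : ∀ u < 7670, (fun u => chkFix tab mwords u) u = true := ext_range (a := 7552) (len := 118) h64 m2_64
  have h66 : ∀ u < 7788, (fun u => chkFix tab mwords u) u = true := ext_range (a := 7670) (len := 118) h65 m2_65
  have h67 : ∀ u < 7906, (fun u => chkFix tab mwords u) u = true := ext_range (a := 7788) (len := 118) h66 m2_66
  have h68 : ∀ u < 8024, (fun u => chkFix tab mwords u) u = true := ext_range (a := 7906) (len := 118) h67 m2_67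
  have h69 : ∀ u < 8142, (fun u => chkFix tab mwords u) u = true := ext_range (a := 8024) (len := 118) h68 m2_68
  have h70 : ∀ u < 8260, (fun u => chkFix tab mwords u) u = true := ext_range (a := 8142) (len := 118) h69 m2_69
  have h71 : ∀ u < 8378, (fun u => chkFix tab mwords u) u = true := ext_range (a := 8260) (len := 118) h70 m2_70
  have h72 : ∀ u < 8496, (fun u => chkFix tab mwords u) u = true := ext_range (a := 8378) (len := 118) h71 m2_71
  have h73 : ∀ u < 8614, (fun u => chkFix tab mwords u) u = true := ext_range (a := 8496) (len := 118) h72 m2_72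
  have h74 : ∀ u < 8732, (fun u => chkFix tab mwords u) u = true := ext_range (a := 8614) (len := 118) h73 m2_73
  have h75 : ∀ u < 8850, (fun u => chkFix tab mwords u) u = true := ext_range (a := 8732) (len := 118) h74 m2_74
  have h76 : ∀ u < 8968, (fun u => chkFix tab mwords u) u = true := ext_range (a := 8850) (len := 118) h75 m2_75
  have h77 : ∀ u < 9086, (fun u => chkFix tab mwords u) u = true := ext_range (a := 8968) (len := 118) h76 m2_76
  have h78 : ∀ u < 9204, (fun u => chkFix tab mwords u) u = true := ext_range (a := 9086) (len := 118) h77 m2_77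
  have h79 : ∀ u < 9322, (fun u => chkFix tab mwords u) u = true := ext_range (a := 9204) (len := 118) h78 m2_78
  have h80 : ∀ u < 9440, (fun u => chkFix tab mwords u) u = true := ext_range (a := 9322) (len := 118) h79 m2_79
  have h81 : ∀ u < 9558, (fun u => chkFix tab mwords u) u = true := ext_range (a := 9440) (len := 118) h80 m2_80
  have h82 : ∀ u < 9676, (fun u => chkFix tab mwords u) u = true := ext_range (a := 9558) (len := 118) h81 m2_81
  have h83 : ∀ u < 9794, (fun u => chkFix tab mwords u) u = true := ext_range (a := 9676) (len := 118) h82 m2_82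
  have h84 : ∀ u < 9912, (fun u => chkFix tab mwords u) u = true := ext_range (a := 9794) (len := 118) h83 m2_83
  have h85 : ∀ u < 10030, (fun u => chkFix tab mwords u) u = true := ext_range (a := 9912) (len := 118) h84 m2_84
  have h86 : ∀ u < 10148, (fun u => chkFix tab mwords u) u = true := ext_range (a := 10030) (len := 118) h85 m2_85
  have h87 : ∀ u < 10266, (fun u => chkFix tab mwords u) u = true := ext_range (a := 10148) (len := 118) h86 m2_86
  have h88 : ∀ u < 10384, (fun u => chkFix tab mwords u) u = true := ext_range (a := 10266) (len := 118) h87 m2_87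
  have h89 : ∀ u < 10502, (fun u => chkFix tab mwords u) u = true := ext_range (a := 10384) (len := 118) h88 m2_88
  have h90 : ∀ u < 10620, (fun u => chkFix tab mwords u) u = true := ext_range (a := 10502) (len := 118) h89 m2_89
  have h91 : ∀ u < 10738, (fun u => chkFix tab mwords u) u = true := ext_range (a := 10620) (len := 118) h90 m2_90
  have h92 : ∀ u < 10856, (fun u => chkFix tab mwords u) u = true := ext_range (a := 10738) (len := 118) h91 m2_91
  have h93 : ∀ u < 10974, (fun u => chkFix tab mwords u) u = true := ext_range (a := 10856) (len := 118) h92 m2_92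
  have h94 : ∀ u < 11092, (fun u => chkFix tab mwords u) u = true := ext_range (a := 10974) (len := 118) h93 m2_93
  have h95 : ∀ u < 11210, (fun u => chkFix tab mwords u) u = true := ext_range (a := 11092) (len := 118) h94 m2_94
  have h96 : ∀ u < 11328, (fun u => chkFix tab mwords u) u = true := ext_range (a := 11210) (len := 118) h95 m2_95
  have h97 : ∀ u < 11446, (fun u => chkFix tab mwords u) u = true := ext_range (a := 11328) (len := 118) h96 m2_96
  have h98 : ∀ u < 11564, (fun u => chkFix tab mwords u) u = true := ext_range (a := 11446) (len := 118) h97 m2_97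
  have h99 : ∀ u < 11682, (fun u => chkFix tab mwords u) u = true := ext_range (a := 11564) (len := 118) h98 m2_98
  have h100 : ∀ u < 11800, (fun u => chkFix tab mwords u) u = true := ext_range (a := 11682) (len := 118) h99 m2_99
  have h101 : ∀ u < 11918, (fun u => chkFix tab mwords u) u = true := ext_range (a := 11800) (len := 118) h100 m2_100
  have h102 : ∀ u < 12036, (fun u => chkFix tab mwords u) u = true := ext_range (a := 11918) (len := 118) h101 m2_101
  have h103 : ∀ u < 12154, (fun u => chkFix tab mwords u) u = true := ext_range (a := 12036) (len := 118) h102 m2_102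
  have h104 : ∀ u < 12272, (fun u => chkFix tab mwords u) u = true := ext_range (a := 12154) (len := 118) h103 m2_103
  have h105 : ∀ u < 12390, (fun u => chkFix tab mwords u) u = true := ext_range (a := 12272) (len := 118) h104 m2_104
  have h106 : ∀ u < 12508, (fun u => chkFix tab mwords u) u = true := ext_range (a := 12390) (len := 118) h105 m2_105
  have h107 : ∀ u < 12626, (fun u => chkFix tab mwords u) u = true := ext_range (a := 12508) (len := 118) h106 m2_106
  have h108 : ∀ u < 12744, (fun u => chkFix tab mwords u) u = true := ext_range (a := 12626) (len := 118) h107 m2_107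
  have h109 : ∀ u < 12862, (fun u => chkFix tab mwords u) u = true := ext_range (a := 12744) (len := 118) h108 m2_108
  have h110 : ∀ u < 12980, (fun u => chkFix tab mwords u) u = true := ext_range (a := 12862) (len := 118) h109 m2_109
  have h111 : ∀ u < 13098, (fun u => chkFix tab mwords u) u = true := ext_range (a := 12980) (len := 118) h110 m2_110
  have h112 : ∀ u < 13216, (fun u => chkFix tab mwords u) u = true := ext_range (a := 13098) (len := 118) h111 m2_111
  have h113 : ∀ u < 13334, (fun u => chkFix tab mwords u) u = true := ext_range (a := 13216) (len := 118) h112 m2_112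
  have h114 : ∀ u < 13452, (fun u => chkFix tab mwords u) u = true := ext_range (a := 13334) (len := 118) h113 m2_113
  have h115 : ∀ u < 13570, (fun u => chkFix tab mwords u) u = true := ext_range (a := 13452) (len := 118) h114 m2_114
  have h116 : ∀ u < 13688, (fun u => chkFix tab mwords u) u = true := ext_range (a := 13570) (len := 118) h115 m2_115
  have h117 : ∀ u < 13806, (fun u => chkFix tab mwords u) u = true := ext_range (a := 13688) (len := 118) h116 m2_116
  have h118 : ∀ u < 13924, (fun u => chkFix tab mwords u) u = true := ext_range (a := 13806) (len := 118) h117 m2_117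
  have h119 : ∀ u < 14042, (fun u => chkFix tab mwords u) u = true := ext_range (a := 13924) (len := 118) h118 m2_118
  have h120 : ∀ u < 14160, (fun u => chkFix tab mwords u) u = true := ext_range (a := 14042) (len := 118) h119 m2_119
  have h121 : ∀ u < 14278, (fun u => chkFix tab mwords u) u = true := ext_range (a := 14160) (len := 118) h120 m2_120
  have h122 : ∀ u < 14396, (fun u => chkFix tab mwords u) u = true := ext_range (a := 14278) (len := 118) h121 m2_121
  have h123 : ∀ u < 14514, (fun u => chkFix tab mwords u) u = true := ext_range (a := 14396) (len := 118) h122 m2_122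
  have h124 : ∀ u < 14632, (fun u => chkFix tab mwords u) u = true := ext_range (a := 14514) (len := 118) h123 m2_123
  have h125 : ∀ u < 14750, (fun u => chkFix tab mwords u) u = true := ext_range (a := 14632) (len := 118) h124 m2_124
  have h126 : ∀ u < 14868, (fun u => chkFix tab mwords u) u = true := ext_range (a := 14750) (len := 118) h125 m2_125
  have h127 : ∀ u < 14986, (fun u => chkFix tab mwords u) u = true := ext_range (a := 14868) (len := 118) h126 m2_126
  have h128 : ∀ u < 15104, (fun u => chkFix tab mwords u) u = true := ext_range (a := 14986) (len := 118) h127 m2_127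
  have h129 : ∀ u < 15120, (fun u => chkFix tab mwords u) u = true := ext_range (a := 15104) (len := 16) h128 m2_128
  exact h129

theorem hE : ∀ c < 12, ∀ u < 16004, chkE tab c u = true := by
  intro c hc
  interval_cases c
  · exact hE0
  · exact hE1
  · exact hE2
  · exact hE3
  · exact hE4
  · exact hE5
  · exact hE6
  · exact hE7
  · exact hE8
  · exact hE9
  · exact hE10
  · exact hE11

end Cfsg.Agent.Helper9.TCData.A7C0
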