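import Cfsg.Agent.Lib.Helper9.TC2Cox
import Cfsg.Agent.Lib.Helper9.TC2Aux
import Cfsg.Agent.Lib.Helper9.TC2BSGS
import Cfsg.Agent.Lib.Helper9.TC2Pack
import Cfsg.Agent.Lib.Helper9.TCData.A7C0.P0

set_option autoImplicit false
set_option maxRecDepth 100000

namespace Cfsg.Agent.Helper9.TCData.A7C0
open Cfsg.Agent.Helper9.TC2
/-- The rotated relators. -/
noncomputable def rotT : WT := (WT.node 38 (WT.node 19 (WT.node 9 (WT.node 4 (WT.node 2 (WT.node 1 (WT.leaf [0, 0, 0]) (WT.leaf [0, 11, 1, 10])) (WT.node 3 (WT.leaf [0, 6, 0, 6, 11]) (WT.leaf [0, 4, 11, 11, 11, 0, 4]))) (WT.node 6 (WT.node 5 (WT.leaf [0, 8, 11, 11, 11, 0, 8]) (WT.leaf [0, 6, 11, 0, 6])) (WT.node 7 (WT.leaf [0, 4, 0, 4, 11, 11, 11]) (WT.node 8 (WT.leaf [0, 2, 0, 2, 0, 2]) (WT.leaf [0, 8, 0, 8, 11, 11, 11]))))) (WT.node 14 (WT.node 11 (WT.node 10 (WT.leaf [1, 10,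 0, 11]) (WT.leaf [2, 11, 3, 10])) (WT.node 12 (WT.leaf [2, 11, 11, 11, 2]) (WT.node 13 (WT.leaf [2, 0, 2, 0, 2, 0]) (WT.leaf [2, 6, 11, 11, 11, 2, 6])))) (WT.node 16 (WT.node 15 (WT.leaf [2, 8, 11, 11, 11, 2, 8]) (WT.leaf [2, 2, 11, 11, 11])) (WT.node 17 (WT.leaf [2, 6, 2, 6, 11, 11, 11]) (WT.node 18 (WT.leaf [2, 4, 2, 4, 2, 4]) (WT.leaf [2, 8, 2, 8, 11, 11, 11])))))) (WT.node 28 (WT.node 23 (WT.node 21 (WT.node 20 (WT.leaf [3, 10, 2, 11]) (WT.leaf [4, 11, 5, 10])) (WT.node 22 (WT.leaf [4, 0, 4, 11, 11, 11, 0]) (WT.leaf [4, 11, 11, 11, 4]))) (WT.node 25 (WT.node 24 (WT.leaf [4, 8, 11, 11, 11, 4, 8]) (WT.leaf [4, 2, 4, 2, 4, 2])) (WT.node 26 (WT.leaf [4, 4, 11, 11, 11]) (WT.node 27 (WT.leaf [4, 6, 4, 6, 4, 6]) (WT.leaf [4, 8, 4, 8, 11, 11, 11]))))) (WT.node 33 (WT.node 30 (WT.node 29 (WT.leaf [4, 11, 11, 11, 0, 4, 0]) (WT.leaf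 [5, 10, 4, 11])) (WT.node 31 (WT.leaf [6, 11, 7, 10]) (WT.node 32 (WT.leaf [6, 0, 6, 11, 0]) (WT.leaf [6, 11, 0, 6, 0])))) (WT.node 35 (WT.node 34 (WT.leaf [6, 11, 11, 11, 2, 6, 2]) (WT.leaf [6, 6, 11, 11, 11])) (WT.node 36 (WT.leaf [6, 11, 11, 11, 6]) (WT.node 37 (WT.leaf [6, 4, 6, 4, 6, 4]) (WT.leaf [6, 2, 6, 11, 11, 11, 2]))))))) (WT.node 57 (WT.node 47 (WT.node 42 (WT.node 40 (WT.node 39 (WT.leaf [6, 8, 6, 8, 6, 8]) (WT.leaf [7, 10, 6, 11])) (WT.node 41 (WT.leaf [8, 11, 9, 10]) (WT.leaf [8, 4, 8, 11, 11, 11, 4]))) (WT.node 44 (WT.node 43 (WT.leaf [8, 0, 8, 11, 11, 11, 0]) (WT.leaf [8, 11, 11, 11, 8])) (WT.node 45 (WT.leaf [8, 6, 8, 6, 8, 6]) (WT.node 46 (WT.leaf [8, 8, 11, 11, 11]) (WT.leaf [8, 11, 11, 11, 0, 8, 0]))))) (WT.node 52 (WT.node 49 (WT.node 48 (WT.leaf [8, 2, 8, 11, 11, 11, 2]) (WT.leaf [8, 11, 11, 11, 4, 8,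 4])) (WT.node 50 (WT.leaf [8, 11, 11, 11, 2, 8, 2]) (WT.node 51 (WT.leaf [9, 10, 8, 11]) (WT.leaf [10, 10, 10, 10, 10, 10])))) (WT.node 54 (WT.node 53 (WT.leaf [10, 0, 11, 1]) (WT.leaf [10, 6, 11, 7])) (WT.node 55 (WT.leaf [10, 2, 11, 3]) (WT.node 56 (WT.leaf [10, 4, 11, 5]) (WT.leaf [10, 8, 11, 9])))))) (WT.node 67 (WT.node 62 (WT.node 59 (WT.node 58 (WT.leaf [11, 1, 10, 0]) (WT.leaf [11, 2, 2, 11, 11])) (WT.node 60 (WT.leaf [11, 11, 2, 2, 11]) (WT.node 61 (WT.leaf [11, 11, 4, 4, 11]) (WT.leaf [11, 0, 6, 0, 6])))) (WT.node 64 (WT.node 63 (WT.leaf [11, 11, 6, 6, 11]) (WT.leaf [11, 11, 8, 8, 11])) (WT.node 65 (WT.leaf [11, 3, 10, 2]) (WT.node 66 (WT.leaf [11, 5, 10, 4]) (WT.leaf [11, 9, 10, 8]))))) (WT.node 72 (WT.node 69 (WT.node 68 (WT.leaf [11, 6, 6, 11, 11]) (WT.leaf [11, 11, 11, 2, 2])) (WT.node 70 (WT.leaf [11, 11, 11,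 4, 4]) (WT.node 71 (WT.leaf [11, 11, 11, 8, 8]) (WT.leaf [11, 11, 0, 4, 0, 4, 11])))) (WT.node 74 (WT.node 73 (WT.leaf [11, 11, 11, 6, 6]) (WT.leaf [11, 7, 10, 6])) (WT.node 75 (WT.leaf [11, 4, 4, 11, 11]) (WT.node 76 (WT.leaf [11, 0, 4, 0, 4, 11, 11]) (WT.leaf [11, 8, 8, 11, 11]))))))))

/-- The sources of the rotated relators: relator and rotation. -/
def rotSrc : List (ℕ × ℕ) := [(0, 1), (16, 1), (10, 0), (9, 2), (11, 2), (10, 2), (9, 0), (5, 2), (11, 0), (16, 3), (17, 1), (1, 1), (5, 1), (12, 2), (13, 2), (1, 0), (12, 0), (6, 2), (13, 0), (17, 3), (18, 1), (9, 1), (2, 1), (14, 2), (6, 1), (2, 0), (7, 2), (14, 0), (9, 3), (18, 3), (19, 1), (10, 1), (10, 3), (12, 3), (3, 0), (3, 1), (7, 1), (12, 1), (8, 2), (19, 3), (20, 1), (14, 1), (11, 1), (4, 1), (8, 1), (4, 0), (11, 3), (13, 1), (14, 3), (13, 3), (20, 3), (15, 5), (16,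 0), (19, 0), (17, 0), (18, 0), (20, 0), (16, 2), (1, 4), (1, 3), (2, 3), (10, 4), (3, 3), (4, 3), (17, 2), (18, 2), (20, 2), (3, 4), (1, 2), (2, 2), (4, 2), (9, 5), (3, 2), (19, 2), (2, 4), (9, 6), (4, 4)]

/-- The relators, as words of columns. -/
def relWords : List (List ℕ) := [[0, 0, 0], [2, 2, 11, 11, 11], [4, 4, 11, 11, 11], [6, 6, 11, 11, 11], [8, 8, 11, 11, 11], [0, 2, 0, 2, 0, 2], [2, 4, 2, 4, 2, 4], [4, 6, 4, 6, 4, 6], [6, 8, 6, 8, 6, 8], [0, 4, 0, 4, 11, 11, 11], [0, 6, 0, 6, 11], [0, 8, 0, 8, 11, 11, 11], [2, 6, 2, 6, 11, 11, 11], [2, 8, 2, 8, 11, 11, 11], [4, 8, 4, 8, 11, 11, 11], [10, 10, 10, 10, 10, 10], [10, 0, 11, 1], [10, 2, 11, 3], [10, 4, 11, 5], [10, 6, 11, 7], [10, 8, 11, 9]]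

/-- The words checked on the permutation model. -/
def mwords : List (List ℕ) := [[0, 0, 0], [2, 2, 11, 11, 11], [4, 4, 11, 11, 11], [6, 6, 11, 11, 11], [8, 8, 11, 11, 11], [0, 2, 0, 2, 0, 2], [2, 4, 2, 4, 2, 4], [4, 6, 4, 6, 4, 6], [6, 8, 6, 8, 6, 8], [0, 4, 0, 4, 11, 11, 11], [0, 6, 0, 6, 11], [0, 8, 0, 8, 11, 11, 11], [2, 6, 2, 6, 11, 11, 11], [2, 8, 2, 8, 11, 11, 11], [4, 8, 4, 8, 11, 11, 11], [10, 10, 10, 10, 10, 10], [10, 0, 11, 1], [10, 2, 11, 3], [10, 4, 11, 5], [10, 6, 11, 7], [10, 8, 11, 9]]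

/-- The table. -/
noncomputable def tab : Tab where
  k := 12
  inv := fun c => (bif Nat.beq c 0 then 1 else (bif Nat.beq c 1 then 0 else (bif Nat.beq c 2 then 3 else (bif Nat.beq c 3 then 2 else (bif Nat.beq c 4 then 5 else (bif Nat.beq c 5 then 4 else (bif Nat.beq c 6 then 7 else (bif Nat.beq c 7 then 6 else (bif Nat.beq c 8 then 9 else (bif Nat.beq c 9 then 8 else (bif Nat.beq c 10 then 11 else (bif Nat.beq c 11 then 10 else c))))))))))))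
  N := 16004
  n := 15120
  Tmax := 183756
  wn := 14
  mn := 0x3fff
  subs := []
  rot := fun i => rotT.getF i
  ent := fun c i => bget2 (BT.node 384 entT_0 entT_1) 6 9 32 0xffffffff 511 c i
  cer := fun c i => bget2 cerT_0 6 9 17 0x1ffff 511 c i
  tau := fun c i => bget2 tauT_0 4 10 14 0x3fff 1023 c i
  lk := fun i => bget lkT_0 9 32 0xffffffff 511 i
  lc := fun i => bget lcT_0 9 31 0x7fffffff 511 i
  pn := fun i => bget pnT_0 9 18 0x3ffff 511 i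
  cls := fun i => bget clsT_0 10 14 0x3fff 1023 i
  rep := fun i => bget repT_0 10 14 0x3fff 1023 i

end Cfsg.Agent.Helper9.TCData.A7C0
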